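import Cfsg.Agent.Spor.Prim
import Cfsg.Agent.Spor.Ly3125.Main
import Cfsg.Agent.Spor.Ly3125.Z.C0
import Cfsg.Agent.Spor.PX6
import Cfsg.Agent.Spor.DC
import Cfsg.Agent.Spor.Ly480.Main

set_option autoImplicit false
set_option maxRecDepth 100000000
set_option Elab.async false

namespace Cfsg.Agent.Spor.Ly3125.Z

theorem hU : U.Ok 12 := U.ok_of 12 (show AllP (fun n => Net.okb 12 n = true) [n0, n1, n2, n3, n4, n5, n6] from AllP.cons ok0 (AllP.cons ok1 (AllP.cons ok2 (AllP.cons ok3 (AllP.cons ok4 (AllP.cons ok5 (AllP.cons ok6 (AllP.nil))))))))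

theorem reach4 : Reach (U.lsub W1) 0 M2 := (Reach.grow hU (Reach.base _ 0) gr3)
theorem bound : Bound 3 0 RL 1500000 := show Bound 3 0 RL (3125 * 480) from (Ly3125.cert.bound' Ly480.cert.bound_nil (H := [([], 0, true), ([], 1, true), ([], 2, true), ([], 3, true), ([], 4, true), ([], 5, true), ([], 6, true), ([], 7, true), ([], 8, true), ([], 9, true), ([], 10, true), ([], 11, true), ([], 12, true), ([], 13, true), ([], 14, true), ([], 15, true), ([], 16, true), ([], 17, true), ([], 18, true), ([], 19, true), ([], 20, true), ([], 21, true), ([], 22, true)]) (H' := [([], 0, true), ([], 1, true), ([], 2, true), ([], 3, true), ([], 4, true)]) (by decide +kernel) (by decide +kernel))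
theorem link : U.Link (MonoidHom.id _) (atm 3 fP) (2 * 3) :=
  Tab.Link.of (fun j hj => by interval_cases j <;> rfl) (by decide +kernel)
theorem cent {G : Type} [Group G] {f : ℕ → G} (hf : Pres 3 0 RL f) (hc : 1500000 ∣ Nat.card (gsub 3 f))
    {K : Subgroup G} (hS : wsub 3 f [[0], [2], [5, 1, 5, 0, 4, 1, 4, 0]] ≤ K) (hz : ev (atm 3 f) [0, 0, 0, 0] ∈ wsub 3 f BW)
    (hK : ∀ x ∈ K, x * ev (atm 3 f) [0, 0, 0, 0] = ev (atm 3 f) [0, 0, 0, 0] * x)
    (hH : ∀ x ∈ wsub 3 f BW, x * ev (atm 3 f) [0, 0, 0, 0] = ev (atm 3 f) [0, 0, 0, 0] * x → x ∈ K)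
 :
    ∀ x ∈ gsub 3 f, x * ev (atm 3 f) [0, 0, 0, 0] = ev (atm 3 f) [0, 0, 0, 0] * x → x ∈ K :=
  cert.cent bound (by norm_num) hf hc hU link (gw := []) (p1 := 0) (W := W1) (by decide +kernel) hS hz hK hH fx reach4
    (Or.inl rfl)

end Cfsg.Agent.Spor.Ly3125.Z
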